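import Groth.Agent.CTensorSemilocal.General
import Groth.Agent.CplFlat.Noetherian
import Groth.Agent.ComplDeriv.Bound
import Mathlib.RingTheory.TensorProduct.Quotient
import Mathlib.RingTheory.Flat.Tensor

/-!
# The completion of `A ⊗ B` along the maximal ideal of `A`
-/

set_option autoImplicit false
universe u

open IsLocalRing
open scoped TensorProduct

attribute [local instance] Algebra.TensorProduct.rightAlgebra

namespace Groth.Agent.CTensorSemilocal

variable (k A B : Type u) [Field k] [CommRing A] [CommRing B] [Algebra k A] [Algebra k B] [IsLocalRing A]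

/-- The ideal of `A ⊗ B` generated by the maximal ideal of `A`. -/
noncomputable abbrev idealA : Ideal (A ⊗[k] B) := (maximalIdeal A).map (algebraMap A (A ⊗[k] B))

/-- The completion of `A ⊗ B` along `idealA`. -/
noncomputable abbrev Cpl : Type u := AdicCompletion (idealA k A B) (A ⊗[k] B)

/-- The ideal of the completion generated by the maximal ideal of `A`. -/
noncomputable abbrev idealD : Ideal (Cpl k A B) := (idealA k A B).map (algebraMap (A ⊗[k] B) (Cpl k A B))

theorem map_maximalIdeal_eq : (maximalIdeal A).map (algebraMap A (Cpl k A B)) = idealD k A B := by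
  rw [idealD, Ideal.map_map, ← IsScalarTower.algebraMap_eq]

variable [IsNoetherianRing A]

theorem idealA_fg : (idealA k A B).FG := (maximalIdeal A).fg_of_isNoetherianRing.map _

theorem isAdicComplete_idealD : IsAdicComplete (idealD k A B) (Cpl k A B) :=
  CplFlat.isAdicComplete_map _ _ (idealA_fg k A B)

variable {k A B}

theorem algebraMap_mem_iff (n : ℕ) (s : A ⊗[k] B) :
    algebraMap (A ⊗[k] B) (Cpl k A B) s ∈ idealD k A B ^ n ↔ s ∈ idealA k A B ^ n := by
  rw [CplFlat.mem_pow_iff _ (idealA_fg k A B)]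
  show Submodule.Quotient.mk s = 0 ↔ _
  rw [Submodule.Quotient.mk_eq_zero, smul_eq_mul, Ideal.mul_top]

theorem exists_sub_mem (n : ℕ) (x : Cpl k A B) :
    ∃ s : A ⊗[k] B, x - algebraMap (A ⊗[k] B) (Cpl k A B) s ∈ idealD k A B ^ n := by
  obtain ⟨r, hr⟩ := Submodule.Quotient.mk_surjective _ (AdicCompletion.eval (idealA k A B) (A ⊗[k] B) n x)
  refine ⟨r, ?_⟩
  rw [CplFlat.mem_pow_iff _ (idealA_fg k A B), map_sub, sub_eq_zero, ← hr]
  rfl

variable (k A B)

/-- The levels of the completion. -/
theorem exists_levelEquiv (n : ℕ) :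
    Nonempty (((A ⊗[k] B) ⧸ idealA k A B ^ n) ≃ₐ[A ⊗[k] B] Cpl k A B ⧸ idealD k A B ^ n) := by
  let f : A ⊗[k] B →ₐ[A ⊗[k] B] Cpl k A B ⧸ idealD k A B ^ n := Algebra.ofId _ _
  have hf : ∀ s, f s = Ideal.Quotient.mk _ (algebraMap (A ⊗[k] B) (Cpl k A B) s) := fun s => rfl
  refine ⟨AlgEquiv.ofBijective (Ideal.Quotient.liftₐ (idealA k A B ^ n) f fun s hs => ?_)
    ⟨(injective_iff_map_eq_zero _).2 fun x hx => ?_, fun y => ?_⟩⟩
  · rw [hf, Ideal.Quotient.eq_zero_iff_mem, algebraMap_mem_iff]
    exact hs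
  · obtain ⟨x, rfl⟩ := Ideal.Quotient.mk_surjective x
    have : f x = 0 := hx
    rw [hf, Ideal.Quotient.eq_zero_iff_mem, algebraMap_mem_iff] at this
    exact Ideal.Quotient.eq_zero_iff_mem.2 this
  · obtain ⟨y, rfl⟩ := Ideal.Quotient.mk_surjective y
    obtain ⟨s, hs⟩ := exists_sub_mem n y
    exact ⟨Ideal.Quotient.mk _ s, (hf s).trans (Ideal.Quotient.eq.2 hs).symm⟩

omit [IsNoetherianRing A] in
/-- The levels of `A ⊗ B`. -/
theorem exists_baseEquiv (n : ℕ) :
    Nonempty (B ⊗[k] (A ⧸ maximalIdeal A ^ n) ≃ₐ[B] (A ⊗[k] B) ⧸ idealA k A B ^ n) := by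
  let c : B ⊗[k] A ≃ₐ[B] A ⊗[k] B :=
    AlgEquiv.ofRingEquiv (f := (Algebra.TensorProduct.comm k B A).toRingEquiv) fun b => by
      show Algebra.TensorProduct.comm k B A (b ⊗ₜ 1) = 1 ⊗ₜ b
      rfl
  refine ⟨(Algebra.TensorProduct.tensorQuotientEquiv (R := k) B A B (maximalIdeal A ^ n)).trans
    (Ideal.quotientEquivAlg _ _ c ?_)⟩
  rw [Ideal.map_pow, Ideal.map_pow]
  congr 1
  show idealA k A B = Ideal.map (c : B ⊗[k] A →+* A ⊗[k] B)
    (Ideal.map (Algebra.TensorProduct.includeRight : A →ₐ[k] B ⊗[k] A).toRingHom (maximalIdeal A))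
  rw [Ideal.map_map]
  rfl

variable [Module.Finite k (ResidueField A)]

theorem finite_level (n : ℕ) : Module.Finite k (A ⧸ maximalIdeal A ^ n) := by
  rcases Nat.eq_zero_or_pos n with rfl | hn
  · have : Subsingleton (A ⧸ maximalIdeal A ^ 0) := Ideal.Quotient.subsingleton_iff.2 (by simp)
    infer_instance
  · exact RingHom.finite_algebraMap.mp <| ComplDeriv.finite_quotient_of_pow_le k A _ (Ideal.pow_le_self hn.ne') le_rfl

theorem finite_quotient (n : ℕ) : Module.Finite B (Cpl k A B ⧸ idealD k A B ^ n) := by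
  have := finite_level k A n
  obtain ⟨e⟩ := exists_levelEquiv k A B n
  obtain ⟨e'⟩ := exists_baseEquiv k A B n
  exact Module.Finite.equiv (e'.trans (e.restrictScalars B)).toLinearEquiv

omit [Module.Finite k (ResidueField A)] in
theorem flat_quotient (n : ℕ) : Module.Flat B (Cpl k A B ⧸ idealD k A B ^ n) := by
  obtain ⟨e⟩ := exists_levelEquiv k A B n
  obtain ⟨e'⟩ := exists_baseEquiv k A B n
  exact Module.Flat.of_linearEquiv (e'.trans (e.restrictScalars B)).toLinearEquiv.symm

theorem isNoetherianRing [IsNoetherianRing B] : IsNoetherianRing (Cpl k A B) := by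
  have : Module.Finite B ((A ⊗[k] B) ⧸ idealA k A B ^ 1) := by
    have := finite_level k A 1
    obtain ⟨e'⟩ := exists_baseEquiv k A B 1
    exact Module.Finite.equiv e'.toLinearEquiv
  have : IsNoetherianRing ((A ⊗[k] B) ⧸ idealA k A B ^ 1) := IsNoetherianRing.of_finite B _
  have : IsNoetherianRing ((A ⊗[k] B) ⧸ idealA k A B) :=
    isNoetherianRing_of_ringEquiv _ (Ideal.quotEquivOfEq (pow_one _))
  exact CplFlat.isNoetherianRing_completion_of_fg _ (idealA_fg k A B)

omit [Module.Finite k (ResidueField A)] in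
theorem flat_left [IsAdicComplete (maximalIdeal A) A] : Module.Flat A (Cpl k A B) := by
  have hD := isAdicComplete_idealD k A B
  rw [← map_maximalIdeal_eq] at hD
  have hc : IsAdicComplete (maximalIdeal A) (Cpl k A B) := (IsAdicComplete.map_algebraMap_iff _ _).1 hD
  have hmemD : ∀ n (x : Cpl k A B),
      x ∈ (maximalIdeal A ^ n • ⊤ : Submodule A (Cpl k A B)) ↔ x ∈ idealD k A B ^ n := fun n x => by
    rw [Ideal.smul_top_eq_map, Submodule.restrictScalars_mem, Ideal.map_pow, map_maximalIdeal_eq]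
  have hmemS : ∀ n (x : A ⊗[k] B),
      x ∈ (maximalIdeal A ^ n • ⊤ : Submodule A (A ⊗[k] B)) ↔ x ∈ idealA k A B ^ n := fun n x => by
    rw [Ideal.smul_top_eq_map, Submodule.restrictScalars_mem, Ideal.map_pow]
  refine CplFlat.flat_of_levelFlat (K := maximalIdeal A) ?_ hc
  refine (CplFlat.levelFlat_of_flat (K := maximalIdeal A) (P := A ⊗[k] B)).transfer (RingHom.id A)
    (IsScalarTower.toAlgHom A (A ⊗[k] B) (Cpl k A B)).toLinearMap.toAddMonoidHom
    (fun r m => map_smul (IsScalarTower.toAlgHom A (A ⊗[k] B) (Cpl k A B)).toLinearMap r m)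
    (fun n s => ⟨s, by simp⟩) (fun n r => Iff.rfl) (fun n p => ?_) (fun n m => ?_)
  · obtain ⟨s, hs⟩ := exists_sub_mem n p
    exact ⟨s, (hmemD n _).2 hs⟩
  · rw [hmemD, hmemS]
    exact algebraMap_mem_iff n m

theorem flat_right [IsNoetherianRing B] : Module.Flat B (Cpl k A B) := by
  have := isNoetherianRing k A B
  have := isAdicComplete_idealD k A B
  rw [Module.Flat.iff_lTensor_injective']
  intro J
  rw [injective_iff_map_eq_zero]
  intro x hx
  have : IsHausdorff (idealD k A B) (Cpl k A B ⊗[B] J) :=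
    IsHausdorff.of_le_jacobson _ _ (IsAdicComplete.le_jacobson_bot _)
  refine IsHausdorff.haus' (I := idealD k A B) x fun n => ?_
  rw [SModEq.zero]
  have := flat_quotient k A B n
  let q : Cpl k A B →ₗ[B] Cpl k A B ⧸ idealD k A B ^ n := ((Ideal.Quotient.mkₐ B (idealD k A B ^ n))).toLinearMap
  let i : (idealD k A B ^ n).restrictScalars B →ₗ[B] Cpl k A B := Submodule.subtype _
  have hiq : Function.Exact i q := fun y => by
    constructor
    · intro h
      exact ⟨⟨y, Ideal.Quotient.eq_zero_iff_mem.1 h⟩, rfl⟩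
    · rintro ⟨z, rfl⟩
      exact Ideal.Quotient.eq_zero_iff_mem.2 z.2
  have hq : Function.Surjective q := Ideal.Quotient.mk_surjective
  have h0 : LinearMap.rTensor J q x = 0 := by
    apply Module.Flat.lTensor_preserves_injective_linearMap (M := Cpl k A B ⧸ idealD k A B ^ n)
      J.subtype Subtype.val_injective
    rw [map_zero, ← LinearMap.comp_apply, LinearMap.lTensor_comp_rTensor, ← LinearMap.rTensor_comp_lTensor,
      LinearMap.comp_apply, hx, map_zero]
  obtain ⟨z, rfl⟩ := (rTensor_exact J hiq hq x).1 h0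
  clear hx h0
  induction z using TensorProduct.induction_on with
  | zero => simp
  | tmul p j =>
    rw [LinearMap.rTensor_tmul, show (i p) ⊗ₜ[B] j = (p : Cpl k A B) • ((1 : Cpl k A B) ⊗ₜ[B] j) by
      rw [TensorProduct.smul_tmul', smul_eq_mul, mul_one]; rfl]
    exact Submodule.smul_mem_smul p.2 Submodule.mem_top
  | add a b ha hb => rw [map_add]; exact add_mem ha hb

/-- Completeness for the ideal generated by both maximal ideals. -/
theorem isAdicComplete_sup_idealD [IsLocalRing B] [IsNoetherianRing B] [IsAdicComplete (maximalIdeal B) B] :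
    IsAdicComplete (idealD k A B ⊔ (maximalIdeal B).map (algebraMap B (Cpl k A B))) (Cpl k A B) := by
  have := isAdicComplete_idealD k A B
  set K := (maximalIdeal B).map (algebraMap B (Cpl k A B))
  have hmem : ∀ n m (x : Cpl k A B),
      Ideal.Quotient.mk (idealD k A B ^ n) x ∈
        (maximalIdeal B ^ m • ⊤ : Submodule B (Cpl k A B ⧸ idealD k A B ^ n)) ↔
      x ∈ idealD k A B ^ n ⊔ K ^ m := fun n m x => by
    rw [Ideal.smul_top_eq_map, Submodule.restrictScalars_mem, Ideal.map_pow,
      IsScalarTower.algebraMap_eq B (Cpl k A B) (Cpl k A B ⧸ idealD k A B ^ n), ← Ideal.map_map, Ideal.Quotient.algebraMap_eq, ← Ideal.map_pow (Ideal.Quotient.mk (idealD k A B ^ n)),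
      ← Ideal.mem_comap, Ideal.comap_map_of_surjective _ Ideal.Quotient.mk_surjective,
      ← RingHom.ker_eq_comap_bot, Ideal.mk_ker, sup_comm]
  refine isAdicComplete_sup _ _ (fun n x hx => ?_) (fun n g hg => ?_)
  · have := finite_quotient k A B n
    have : IsAdicComplete (maximalIdeal B) (Cpl k A B ⧸ idealD k A B ^ n) := AdicLim.isAdicComplete_of_finite _
    rw [← Ideal.Quotient.eq_zero_iff_mem]
    refine IsHausdorff.haus' (I := maximalIdeal B) _ fun m => ?_
    rw [SModEq.zero, hmem]
    exact hx m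
  · have := finite_quotient k A B n
    have : IsAdicComplete (maximalIdeal B) (Cpl k A B ⧸ idealD k A B ^ n) := AdicLim.isAdicComplete_of_finite _
    obtain ⟨L, hL⟩ := IsPrecomplete.prec' (I := maximalIdeal B)
      (fun m => Ideal.Quotient.mk (idealD k A B ^ n) (g m)) fun {m m'} h => by
        rw [SModEq.sub_mem, ← map_sub, hmem]
        exact hg m m' h
    obtain ⟨y, rfl⟩ := Ideal.Quotient.mk_surjective L
    refine ⟨y, fun m => ?_⟩
    have := hL m
    rw [SModEq.sub_mem, ← map_sub, hmem] at this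
    exact sub_mem_comm_iff.1 this

omit [Module.Finite k (ResidueField A)] in
/-- The fibre of the completion. -/
theorem exists_fibreEquiv :
    Nonempty ((Cpl k A B ⧸ idealD k A B) ≃+* (A ⧸ maximalIdeal A) ⊗[k] B) := by
  obtain ⟨e⟩ := exists_levelEquiv k A B 1
  exact ⟨((Ideal.quotEquivOfEq (pow_one (idealD k A B))).symm.trans (e.symm.toRingEquiv.trans
    (Ideal.quotEquivOfEq (pow_one (idealA k A B))))).trans
    (Algebra.TensorProduct.quotientTensorEquiv (R := k) A B A (maximalIdeal A)).symm.toRingEquiv⟩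

theorem finite_quotient_of_le (M : Ideal (Cpl k A B)) (h : idealD k A B ≤ M) :
    Module.Finite B (Cpl k A B ⧸ M) := by
  have := finite_quotient k A B 1
  have h' : idealD k A B ^ 1 ≤ M := by rw [pow_one]; exact h
  exact Module.Finite.of_surjective (Ideal.Quotient.factorₐ B h').toLinearMap
    (Ideal.Quotient.factor_surjective h')

theorem finite_quotient_of_isMaximal (M : Ideal (Cpl k A B)) [M.IsMaximal] :
    Module.Finite B (Cpl k A B ⧸ M) :=
  have := isAdicComplete_idealD k A B
  finite_quotient_of_le k A B M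
    ((IsAdicComplete.le_jacobson_bot _).trans (sInf_le ⟨bot_le, inferInstance⟩))

theorem isArtinianRing_quotient_sup [IsLocalRing B] :
    IsArtinianRing (Cpl k A B ⧸ (idealD k A B ⊔ (maximalIdeal B).map (algebraMap B (Cpl k A B)))) := by
  set L := idealD k A B ⊔ (maximalIdeal B).map (algebraMap B (Cpl k A B))
  have := finite_quotient_of_le k A B L le_sup_left
  have : Module.IsTorsionBySet B (Cpl k A B ⧸ L) (maximalIdeal B : Set B) := fun x b => by
    obtain ⟨x, rfl⟩ := Ideal.Quotient.mk_surjective x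
    rw [Algebra.smul_def, IsScalarTower.algebraMap_apply B (Cpl k A B) (Cpl k A B ⧸ L),
      Ideal.Quotient.algebraMap_eq, ← map_mul, Ideal.Quotient.eq_zero_iff_mem]
    exact L.mul_mem_right _ (Ideal.mem_sup_right (Ideal.mem_map_of_mem _ b.2))
  let := this.module
  have : Module.Finite (B ⧸ maximalIdeal B) (Cpl k A B ⧸ L) := Module.Finite.of_restrictScalars_finite B _ _
  let : Field (B ⧸ maximalIdeal B) := Ideal.Quotient.field _
  have : IsArtinian B (Cpl k A B ⧸ L) :=
    isArtinian_of_surjective_algebraMap (R := B ⧸ maximalIdeal B) Ideal.Quotient.mk_surjective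
  exact isArtinian_of_tower B this

theorem finite_maximalSpectrum [IsLocalRing B] [IsNoetherianRing B] [IsAdicComplete (maximalIdeal B) B] :
    Finite (MaximalSpectrum (Cpl k A B)) := by
  have := isAdicComplete_sup_idealD k A B
  have := isArtinianRing_quotient_sup k A B
  set L := idealD k A B ⊔ (maximalIdeal B).map (algebraMap B (Cpl k A B))
  have hle : ∀ M : MaximalSpectrum (Cpl k A B), L ≤ M.asIdeal := fun M =>
    (IsAdicComplete.le_jacobson_bot L).trans (sInf_le ⟨bot_le, M.isMaximal⟩)
  refine Finite.of_injective (fun M : MaximalSpectrum (Cpl k A B) =>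
    (⟨M.asIdeal.map (Ideal.Quotient.mk L), have := M.isMaximal; Ideal.IsMaximal.map_of_surjective_of_ker_le
      Ideal.Quotient.mk_surjective (by rw [Ideal.mk_ker]; exact hle M)⟩ : MaximalSpectrum (Cpl k A B ⧸ L)))
    fun M N h => MaximalSpectrum.ext ?_
  have h' := congrArg (fun I : Ideal (Cpl k A B ⧸ L) => I.comap (Ideal.Quotient.mk L)) (congrArg MaximalSpectrum.asIdeal h)
  simp only [Ideal.comap_map_of_surjective _ Ideal.Quotient.mk_surjective, ← RingHom.ker_eq_comap_bot, Ideal.mk_ker,
    sup_eq_left.2 (hle _)] at h'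
  exact h'

end Groth.Agent.CTensorSemilocal
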