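import Groth.Agent.CTensorSemilocal.Basic
import Groth.Agent.J2Lib.Descent
import Groth.Agent.Miracle.Basic

/-!
# Completed tensor product with a field extension
-/

set_option autoImplicit false
universe u

open IsLocalRing
open scoped TensorProduct

attribute [local instance] Algebra.TensorProduct.rightAlgebra

namespace Groth.Agent.CTensorSemilocal

variable (k A k' : Type u) [Field k] [CommRing A] [IsNoetherianRing A] [IsLocalRing A] [Algebra k A]
  [Field k'] [Algebra k k'] [Module.Finite k (ResidueField A)]

theorem isArtinianRing_fibre : IsArtinianRing (Cpl k A k' ⧸ idealD k A k') := by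
  have h := isArtinianRing_quotient_sup k A k'
  have e : idealD k A k' ⊔ (maximalIdeal k').map (algebraMap k' (Cpl k A k')) = idealD k A k' := by
    rw [IsLocalRing.isField_iff_maximalIdeal_eq.1 (Field.toIsField k'), Ideal.map_bot, sup_bot_eq]
  exact Function.Surjective.isArtinianRing
    (f := (Ideal.quotEquivOfEq e).toRingHom) (Ideal.quotEquivOfEq e).surjective

variable [IsAdicComplete (maximalIdeal A) A]

theorem local_structure (M : Ideal (Cpl k A k')) [M.IsMaximal] :
    IsAdicComplete (maximalIdeal (Localization.AtPrime M)) (Localization.AtPrime M) ∧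
      Module.FaithfullyFlat A (Localization.AtPrime M) ∧
      ringKrullDim (Localization.AtPrime M) = ringKrullDim A := by
  have := isNoetherianRing k A k'
  have := isAdicComplete_idealD k A k'
  have := isArtinianRing_fibre k A k'
  refine ⟨isAdicComplete_atPrime (idealD k A k') M, ?_⟩
  set L := Localization.AtPrime M
  have hPM : idealD k A k' ≤ M :=
    (IsAdicComplete.le_jacobson_bot _).trans (sInf_le ⟨bot_le, inferInstance⟩)
  have hmap : (maximalIdeal A).map (algebraMap A L) = (idealD k A k').map (algebraMap (Cpl k A k') L) := by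
    rw [← map_maximalIdeal_eq, Ideal.map_map, ← IsScalarTower.algebraMap_eq]
  have hmax : (maximalIdeal A).map (algebraMap A L) ≤ maximalIdeal L := by
    rw [hmap, ← IsLocalization.AtPrime.map_eq_maximalIdeal M L]
    exact Ideal.map_mono hPM
  have : IsLocalHom (algebraMap A L) := ((local_hom_TFAE _).out 2 0).mp hmax
  have := flat_left k A k'
  have : Module.Flat (Cpl k A k') L := IsLocalization.flat L M.primeCompl
  have : Module.Flat A L := Module.Flat.trans A (Cpl k A k') L
  refine ⟨Module.FaithfullyFlat.of_flat_of_isLocalHom, le_antisymm ?_ (J2Lib.ringKrullDim_le_of_flat A L)⟩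
  have hne : (maximalIdeal A).map (algebraMap A L) ≠ ⊤ :=
    ne_top_of_le_ne_top (maximalIdeal.isMaximal L).ne_top hmax
  have : IsArtinianRing (L ⧸ (maximalIdeal A).map (algebraMap A L)) := by
    rw [hmap]
    refine Function.Surjective.isArtinianRing
      (f := Ideal.quotientMap _ (algebraMap (Cpl k A k') L) Ideal.le_comap_map) ?_
    intro y
    obtain ⟨y, rfl⟩ := Ideal.Quotient.mk_surjective y
    obtain ⟨x, rfl⟩ := surjective_algebraMap_atPrime (idealD k A k') M y
    exact ⟨Ideal.Quotient.mk _ x, Ideal.quotientMap_mk⟩
  refine (Miracle.ringKrullDim_le_add (R := A) (S := L)).trans ?_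
  have h0 : ringKrullDim (L ⧸ (maximalIdeal A).map (algebraMap A L)) ≤ 0 :=
    Ring.krullDimLE_iff.1 inferInstance
  exact (add_le_add le_rfl h0).trans (add_zero _).le

theorem field_case :
    IsNoetherianRing (Cpl k A k') ∧ Finite (MaximalSpectrum (Cpl k A k')) ∧
      IsAdicComplete ((maximalIdeal A).map (algebraMap A (Cpl k A k'))) (Cpl k A k') ∧
      ∀ M : MaximalSpectrum (Cpl k A k'),
        IsAdicComplete (maximalIdeal (Localization.AtPrime M.asIdeal)) (Localization.AtPrime M.asIdeal) ∧
          Module.FaithfullyFlat A (Localization.AtPrime M.asIdeal) ∧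
          ringKrullDim (Localization.AtPrime M.asIdeal) = ringKrullDim A ∧
          (((Ideal.Quotient.mk M.asIdeal).comp (algebraMap (A ⊗[k] k') (Cpl k A k'))).comp
              Algebra.TensorProduct.includeRight.toRingHom).Finite := by
  have : IsAdicComplete (maximalIdeal k') k' := by
    rw [IsLocalRing.isField_iff_maximalIdeal_eq.1 (Field.toIsField k')]
    infer_instance
  refine ⟨isNoetherianRing k A k', finite_maximalSpectrum k A k', ?_, fun M => ?_⟩
  · rw [map_maximalIdeal_eq]
    exact isAdicComplete_idealD k A k'
  · have := M.isMaximal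
    obtain ⟨h1, h2, h3⟩ := local_structure k A k' M.asIdeal
    refine ⟨h1, h2, h3, ?_⟩
    have h4 := RingHom.finite_algebraMap.mpr (finite_quotient_of_isMaximal k A k' M.asIdeal)
    convert h4 using 1
    rfl

end Groth.Agent.CTensorSemilocal
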