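import Groth.Agent.AdicLim.Noetherian
import Groth.Agent.FlatAscent.IadicFibre
import Groth.Agent.AdicEquiv.Basic
import Mathlib.RingTheory.Henselian
import Mathlib.RingTheory.HopkinsLevitzki
import Mathlib.RingTheory.Spectrum.Prime.Topology

/-!
# Complete rings: sums of ideals, semilocal complete rings, dense maps
-/

set_option autoImplicit false
universe u

namespace Groth.Agent.CTensorSemilocal

open IsLocalRing

variable {D : Type u} [CommRing D]

/-- A `P`-complete ring whose quotients by powers of `P` are `K`-complete is `(P ⊔ K)`-complete. -/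
theorem isAdicComplete_sup (P K : Ideal D) [IsAdicComplete P D]
    (h1 : ∀ (n : ℕ) (x : D), (∀ m, x ∈ P ^ n ⊔ K ^ m) → x ∈ P ^ n)
    (h2 : ∀ (n : ℕ) (g : ℕ → D), (∀ m m', m ≤ m' → g m - g m' ∈ P ^ n ⊔ K ^ m) →
      ∃ y, ∀ m, y - g m ∈ P ^ n ⊔ K ^ m) :
    IsAdicComplete (P ⊔ K) D := by
  have hle : ∀ m n, (P ⊔ K) ^ (m + n) ≤ P ^ n ⊔ K ^ m := fun m n =>
    (add_comm m n ▸ Ideal.sup_pow_add_le_pow_sup_pow : (P ⊔ K) ^ (m + n) ≤ P ^ n ⊔ K ^ m)
  have hge : ∀ m, P ^ m ⊔ K ^ m ≤ (P ⊔ K) ^ m := fun m =>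
    sup_le (Ideal.pow_right_mono le_sup_left m) (Ideal.pow_right_mono le_sup_right m)
  refine { haus' := fun x hx => ?_, prec' := fun f hf => ?_ }
  · refine IsHausdorff.haus' (I := P) x fun n => ?_
    rw [SModEq.zero, smul_eq_mul, Ideal.mul_top]
    refine h1 n x fun m => hle m n ?_
    simpa [SModEq.zero] using hx (m + n)
  · have hf' : ∀ {m m'}, m ≤ m' → f m - f m' ∈ (P ⊔ K) ^ m := fun h => by
      simpa [SModEq.sub_mem] using hf h
    have hy : ∀ n, ∃ y, ∀ m, y - f (m + n) ∈ P ^ n ⊔ K ^ m := fun n =>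
      h2 n (fun m => f (m + n)) fun m m' h => hle m n (hf' (by omega))
    choose y hy using hy
    have hstep : ∀ n n', n ≤ n' → y n - y n' ∈ P ^ n := fun n n' h => h1 n _ fun m => by
      have e1 := hy n m
      have e2 : y n' - f (m + n') ∈ P ^ n ⊔ K ^ m :=
        (sup_le_sup (Ideal.pow_le_pow_right h) le_rfl : P ^ n' ⊔ K ^ m ≤ P ^ n ⊔ K ^ m) (hy n' m)
      have e3 : f (m + n) - f (m + n') ∈ P ^ n ⊔ K ^ m := hle m n (hf' (by omega))
      have := sub_mem (add_mem e1 e3) e2
      ring_nf at this ⊢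
      exact this
    obtain ⟨L, hL⟩ := IsPrecomplete.prec' (I := P) y fun {m n} h => by
      simpa [SModEq.sub_mem] using hstep m n h
    refine ⟨L, fun m => ?_⟩
    have e1 : y m - L ∈ (P ⊔ K) ^ m :=
      Ideal.pow_right_mono le_sup_left m (by simpa [SModEq.sub_mem] using hL m)
    have e2 := hge m (hy m m)
    have e3 := hf' (show m ≤ m + m by omega)
    have := add_mem (add_mem e3 (neg_mem e2)) e1
    rw [SModEq.sub_mem, smul_eq_mul, Ideal.mul_top]
    ring_nf at this ⊢
    exact this

/-- A ring which is complete and separated for `L` is the completion of any ring mapping into it with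
the same levels. -/
theorem exists_equiv_of_levels {S : Type u} [CommRing S] (J : Ideal S) (L : Ideal D) [IsAdicComplete L D]
    (f : S →+* D) (h1 : ∀ n s, f s ∈ L ^ n ↔ s ∈ J ^ n) (h2 : ∀ n d, ∃ s, d - f s ∈ L ^ n) :
    ∃ e : AdicCompletion J S ≃+* D, ∀ s, e (algebraMap S _ s) = f s := by
  have hle : ∀ k, J ^ k ≤ (L ^ k).comap f := fun k s hs => (h1 k s).2 hs
  have hbij : ∀ k, Function.Bijective (Ideal.quotientMap (L ^ k) f (hle k)) := fun k => by
    refine ⟨(injective_iff_map_eq_zero _).2 fun x hx => ?_, fun y => ?_⟩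
    · obtain ⟨x, rfl⟩ := Ideal.Quotient.mk_surjective x
      rw [Ideal.quotientMap_mk, Ideal.Quotient.eq_zero_iff_mem, h1] at hx
      exact Ideal.Quotient.eq_zero_iff_mem.2 hx
    · obtain ⟨y, rfl⟩ := Ideal.Quotient.mk_surjective y
      obtain ⟨s, hs⟩ := h2 k y
      exact ⟨Ideal.Quotient.mk _ s, by rw [Ideal.quotientMap_mk]; exact (Ideal.Quotient.eq.2 hs).symm⟩
  obtain ⟨e, he⟩ := FlatAscent.Iadic.exists_completion_equiv J L f
    (fun k => RingEquiv.ofBijective _ (hbij k)) (fun k c => by rw [RingEquiv.coe_ofBijective, Ideal.quotientMap_mk])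
  refine ⟨e.trans (AdicCompletion.ofAlgEquiv L).symm.toRingEquiv, fun s => ?_⟩
  rw [RingEquiv.trans_apply, he]
  exact (AdicCompletion.ofAlgEquiv L).symm.commutes (f s)

/-- Localisations of complete semilocal rings at maximal ideals are quotients. -/
theorem surjective_algebraMap_atPrime (I : Ideal D) [IsAdicComplete I D] [IsArtinianRing (D ⧸ I)]
    (M : Ideal D) [hMmax : M.IsMaximal] :
    Function.Surjective (algebraMap D (Localization.AtPrime M)) := by
  classical
  have : Nontrivial D := nontrivial_of_ne 0 1 fun h => M.ne_top_iff_one.1 hMmax.ne_top (h ▸ M.zero_mem)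
  have hj : ∀ N : Ideal D, N.IsMaximal → I ≤ N := fun N hN =>
    (IsAdicComplete.le_jacobson_bot I).trans (sInf_le ⟨bot_le, hN⟩)
  have hM : (M.map (Ideal.Quotient.mk I)).IsMaximal :=
    Ideal.IsMaximal.map_of_surjective_of_ker_le Ideal.Quotient.mk_surjective (by
      rw [Ideal.mk_ker]; exact hj M hMmax)
  let x₀ : PrimeSpectrum (D ⧸ I) := ⟨M.map (Ideal.Quotient.mk I), hM.isPrime⟩
  obtain ⟨e₀, he₀, hb⟩ := PrimeSpectrum.exists_idempotent_basicOpen_eq_of_isClopen
    (isClopen_discrete ({x₀} : Set (PrimeSpectrum (D ⧸ I))))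
  obtain ⟨a, ha⟩ := Ideal.Quotient.mk_surjective e₀
  have haa : a ^ 2 - a ∈ I := by
    rw [← Ideal.Quotient.eq_zero_iff_mem, map_sub, map_pow, ha, sq, he₀.eq, sub_self]
  have hu : IsUnit (Ideal.Quotient.mk I (2 * a - 1)) := by
    refine IsUnit.of_mul_eq_one (Ideal.Quotient.mk I (2 * a - 1)) ?_
    rw [map_sub, map_mul, ha, map_ofNat, map_one]
    linear_combination 4 * he₀.eq
  obtain ⟨e, hroot, hea⟩ := HenselianRing.is_henselian (I := I) (Polynomial.X ^ 2 - Polynomial.X)
    (Polynomial.monic_X_pow_sub (by rw [Polynomial.degree_X]; norm_num)) a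
    (by simpa using haa) (by simpa [one_add_one_eq_two, map_ofNat] using hu)
  have hee : e * e = e := by
    have : e ^ 2 - e = 0 := by simpa [Polynomial.IsRoot] using hroot
    linear_combination this
  have hmk : Ideal.Quotient.mk I e = e₀ := by rw [← ha, Ideal.Quotient.eq]; exact hea
  have hmem : ∀ y : PrimeSpectrum (D ⧸ I), e₀ ∉ y.asIdeal ↔ y = x₀ := fun y => by
    have := Set.ext_iff.1 hb.symm y
    simpa using this
  have heM : e ∉ M := fun h => (hmem x₀).2 rfl (hmk ▸ Ideal.mem_map_of_mem _ h)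
  have honly : ∀ N : Ideal D, N.IsMaximal → e ∉ N → N = M := by
    intro N hN heN
    have hN' : (N.map (Ideal.Quotient.mk I)).IsMaximal :=
      Ideal.IsMaximal.map_of_surjective_of_ker_le Ideal.Quotient.mk_surjective (by
        rw [Ideal.mk_ker]; exact hj N hN)
    have hcomap : ∀ N : Ideal D, I ≤ N → (N.map (Ideal.Quotient.mk I)).comap (Ideal.Quotient.mk I) = N :=
      fun N h => Ideal.comap_map_of_surjective _ Ideal.Quotient.mk_surjective _ |>.trans
        (by rw [← RingHom.ker_eq_comap_bot, Ideal.mk_ker, sup_eq_left.2 h])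
    have := (hmem ⟨_, hN'.isPrime⟩).1 fun h => heN (by
      rw [← hcomap N (hj N hN), Ideal.mem_comap, hmk]; exact h)
    rw [← hcomap N (hj N hN), ← hcomap M (hj M hMmax)]
    exact congrArg _ (congrArg PrimeSpectrum.asIdeal this)
  have he1 : algebraMap D (Localization.AtPrime M) e = 1 := by
    have hu' : IsUnit (algebraMap D (Localization.AtPrime M) e) :=
      IsLocalization.map_units (Localization.AtPrime M) (⟨e, heM⟩ : M.primeCompl)
    exact hu'.mul_left_cancel (by rw [← map_mul, hee, mul_one])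
  intro z
  obtain ⟨⟨r, s⟩, hrs⟩ := IsLocalization.surj M.primeCompl z
  have htop : Ideal.span {(s : D)} ⊔ Ideal.span {1 - e} = ⊤ := by
    by_contra hne
    obtain ⟨N, hN, hle⟩ := Ideal.exists_le_maximal _ hne
    have h1e : 1 - e ∈ N := hle (Ideal.mem_sup_right (Ideal.mem_span_singleton_self _))
    have heN : e ∉ N := fun h => hN.ne_top (N.eq_top_iff_one.2 (by simpa using add_mem h1e h))
    have hsN : (s : D) ∈ N := hle (Ideal.mem_sup_left (Ideal.mem_span_singleton_self _))
    rw [honly N hN heN] at hsN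
    exact s.2 hsN
  rw [Ideal.eq_top_iff_one, Ideal.mem_span_singleton_sup] at htop
  obtain ⟨t, u, hu1, htu⟩ := htop
  obtain ⟨v, rfl⟩ := Ideal.mem_span_singleton.1 hu1
  refine ⟨r * t, ?_⟩
  have hst : algebraMap D (Localization.AtPrime M) s * algebraMap D _ t = 1 := by
    rw [← map_mul, ← map_one (algebraMap D (Localization.AtPrime M)), ← htu, map_add, map_mul, map_mul, map_mul,
      map_sub, he1, map_one, sub_self, zero_mul, add_zero, mul_comm]
  rw [map_mul, ← hrs, mul_assoc, hst, mul_one]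

/-- Localisations of complete semilocal Noetherian rings at maximal ideals are complete. -/
theorem isAdicComplete_atPrime [IsNoetherianRing D] (I : Ideal D) [IsAdicComplete I D]
    [IsArtinianRing (D ⧸ I)] (M : Ideal D) [M.IsMaximal] :
    IsAdicComplete (maximalIdeal (Localization.AtPrime M)) (Localization.AtPrime M) := by
  have hs := surjective_algebraMap_atPrime I M
  set L := Localization.AtPrime M
  set φ := algebraMap D L
  have : IsAdicComplete (I.map φ) L := by
    have : Module.Finite D L := Module.Finite.of_surjective (Algebra.linearMap D L) hs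
    exact (IsAdicComplete.map_algebraMap_iff I L).2 (AdicLim.isAdicComplete_of_finite L)
  have : IsArtinianRing (L ⧸ I.map φ) := by
    refine Function.Surjective.isArtinianRing (f := Ideal.quotientMap (I.map φ) φ Ideal.le_comap_map) ?_
    intro y
    obtain ⟨y, rfl⟩ := Ideal.Quotient.mk_surjective y
    obtain ⟨x, rfl⟩ := hs y
    exact ⟨Ideal.Quotient.mk I x, Ideal.quotientMap_mk⟩
  have hne : I.map φ ≠ ⊤ := fun h => by
    have := IsAdicComplete.le_jacobson_bot (I.map φ)
    rw [h, top_le_iff, Ideal.jacobson_eq_top_iff] at this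
    exact bot_ne_top this
  have hle : I.map φ ≤ maximalIdeal L := le_maximalIdeal hne
  obtain ⟨c, hc⟩ := IsArtinianRing.isNilpotent_jacobson_bot (R := L ⧸ I.map φ)
  have hpow : maximalIdeal L ^ (c + 1) ≤ I.map φ := by
    refine (Ideal.pow_le_pow_right (Nat.le_succ c)).trans ?_
    have : Nontrivial (L ⧸ I.map φ) := Ideal.Quotient.nontrivial_iff.2 hne
    have : IsLocalRing (L ⧸ I.map φ) :=
      .of_surjective' (Ideal.Quotient.mk _) Ideal.Quotient.mk_surjective
    have hmax : (maximalIdeal L).map (Ideal.Quotient.mk (I.map φ)) ≤ Ideal.jacobson ⊥ := by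
      rw [IsLocalRing.map_maximalIdeal_of_surjective _ Ideal.Quotient.mk_surjective]
      exact IsLocalRing.maximalIdeal_le_jacobson _
    rw [← Ideal.mk_ker (I := I.map φ), RingHom.ker_eq_comap_bot, ← Ideal.map_le_iff_le_comap, Ideal.map_pow]
    exact (Ideal.pow_right_mono hmax c).trans hc.le
  exact AdicEquiv.of_pow_le_pow_le (c + 1) 1 (Nat.succ_pos c) hpow (by rw [pow_one]; exact hle) ‹_›

end Groth.Agent.CTensorSemilocal
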